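import Groth.Agent.L13.BlowTwo.Regular
import Groth.Agent.L11.SmRegular.Basic
import Groth.Agent.L05.Point.UnramFlat

/-!
# The blow-up of a regular scheme along a regular closed subscheme is regular
-/

set_option autoImplicit false
set_option linter.style.haveILetI false
set_option backward.isDefEq.respectTransparency false
universe u

open CategoryTheory CategoryTheory.Limits AlgebraicGeometry TopologicalSpace Opposite
open Groth.L22 Groth.L13.BU Groth.L11.BlowSmooth

noncomputable section

namespace Groth.L05.BlowRegular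

/-- A chart at a point of the exceptional divisor over a regular centre. -/
theorem regular_chart {A : Type u} [CommRing A] [IsNoetherianRing A] {c : ℕ} (f : Fin c → A)
    [IsRegularRing (A ⧸ sI f)] (hf : CAlgX.IsQuasiRegular f) (i : Fin c)
    (q : Ideal (SC f i)) [q.IsPrime] (hq : sh f i (f i) ∈ q) :
    IsRegularLocalRing (Localization.AtPrime q) := by
  haveI : IsNoetherianRing (SC f i) :=
    isNoetherianRing_of_surjective _ _ (ev f i) (Groth.Agent.L13.BlowTwo.ev_surjective f i)
  haveI : IsRegularRing (SC f i ⧸ (sI f).map (sh f i)) :=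
    IsRegularRing.of_ringEquiv (R := MvPolynomial {j // j ≠ i} (A ⧸ sI f))
      (RingEquiv.ofBijective (pres f i) ⟨pres_injective f i hf, pres_surjective f i⟩)
  have hle : (sI f).map (sh f i) ≤ q := by
    rw [map_ideal, Ideal.span_le, Set.singleton_subset_iff]; exact hq
  let φ : SC f i →+* Localization.AtPrime q := algebraMap (SC f i) (Localization.AtPrime q)
  haveI := Groth.L01.RootExt.isRegularLocalRing_quotient_localization ((sI f).map (sh f i)) q hle
  refine Groth.L07.RegQuot.isRegularLocalRing_of_quotient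
    (J := ((sI f).map (sh f i)).map φ)
    ⟨[φ (sh f i (f i))], ⟨?_, ?_⟩, ?_⟩
  · have hz : φ (sh f i (f i)) ∈ nonZeroDivisors (Localization.AtPrime q) :=
      IsLocalization.map_nonZeroDivisors_le q.primeCompl (Localization.AtPrime q)
        ⟨sh f i (f i), chartHom_nonZeroDivisor (sI f) (f i) (mem_pow_one f i), rfl⟩
    refine (RingTheory.Sequence.isWeaklyRegular_cons_iff (Localization.AtPrime q) _ _).2
      ⟨fun x y hxy => (mul_cancel_left_mem_nonZeroDivisors hz).1 hxy, RingTheory.Sequence.IsWeaklyRegular.nil _ _⟩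
  · intro h
    rw [Ideal.ofList_singleton, smul_eq_mul, Ideal.mul_top] at h
    have hm : φ (sh f i (f i)) ∈ IsLocalRing.maximalIdeal (Localization.AtPrime q) :=
      (IsLocalization.AtPrime.to_map_mem_maximal_iff _ q _).2 hq
    exact (IsLocalRing.maximalIdeal.isMaximal _).ne_top
      (top_le_iff.mp (h.le.trans ((Ideal.span_singleton_le_iff_mem _).2 hm)))
  · rw [map_ideal, Ideal.map_span, Set.image_singleton, Ideal.ofList_singleton]

theorem exists_quasiRegular_gens {A : Type u} [CommRing A] [IsRegularLocalRing A] (I : Ideal A)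
    [IsRegularLocalRing (A ⧸ I)] : ∃ (c : ℕ) (f : Fin c → A), sI f = I ∧ CAlgX.IsQuasiRegular f := by
  obtain ⟨d, hd⟩ := Groth.L01.exists_dim_eq_nat (R := A)
  obtain ⟨l₁, l₂, hlen, hgen, hI⟩ := Groth.L01.exists_lists_of_regular_quotient d A hd I inferInstance
  have hreg : RingTheory.Sequence.IsWeaklyRegular A (l₁ ++ l₂) :=
    (Groth.L01.isRegular_of_ofList_eq_maximalIdeal _ hgen (by rw [hd, hlen])).toIsWeaklyRegular
  have h₁ : RingTheory.Sequence.IsWeaklyRegular A l₁ := ((RingTheory.Sequence.isWeaklyRegular_append_iff A _ _).1 hreg).1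
  refine ⟨l₁.length, l₁.get, ?_, Groth.L07.QReg.isQuasiRegular_of_isWeaklyRegular (by rwa [List.ofFn_get])⟩
  show Ideal.span (Set.range l₁.get) = I
  rw [hI, ← Groth.L07.QReg.ofList_ofFn, List.ofFn_get]

/-- The blow-up of a regular local ring in an ideal with regular quotient is regular. -/
theorem regular_blowUp_local {A : Type u} [CommRing A] [IsRegularLocalRing A] (I : Ideal A)
    [IsRegularLocalRing (A ⧸ I)] {X : Scheme.{u}}
    (b : X ⟶ Spec (CommRingCat.of A)) (hb : BlowUp.IsBlowUp b (idealOf I)) (x : X) :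
    IsRegularLocalRing (X.presheaf.stalk x) := by
  by_cases hx : b x ∈ (idealOf I).support
  · obtain ⟨d, f, hspan, hf⟩ := exists_quasiRegular_gens I
    haveI : IsRegularRing (A ⧸ I) := isRegularRing_iff.2 fun r _ => Groth.Agent.S0564.result (A ⧸ I) r
    haveI : IsRegularRing (A ⧸ sI f) := IsRegularRing.of_ringEquiv (Ideal.quotEquivOfEq hspan.symm)
    rw [← hspan] at hb hx
    obtain ⟨k, hk, -⟩ := hb.2 _ (reesToSpec (sI f)) (isBlowUp_rees (sI f)).1
    haveI := isIso_of_blowUps hb (isBlowUp_rees (sI f)) k hk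
    obtain ⟨p, hp⟩ : ∃ p, k p = x := ⟨inv k x, by rw [← Scheme.Hom.comp_apply, IsIso.inv_hom_id]; rfl⟩
    obtain ⟨i, hi⟩ : ∃ i : Fin d, p ∈ Proj.basicOpen (Rees.deg (reesAlgebra (sI f)))
        (mon (sI f) 1 (f i) (mem_pow_one f i)) := by
      by_contra hall
      push Not at hall
      obtain ⟨⟨a, ha⟩, hpa⟩ := Opens.mem_iSup.1 ((iSup_chart (I := sI f)).ge (Set.mem_univ p))
      simp only [Proj.mem_basicOpen, not_not] at hall
      rw [Proj.mem_basicOpen] at hpa
      apply hpa
      obtain ⟨r, hr⟩ := Ideal.mem_span_range_iff_exists_fun.1 (by simpa using ha : a ∈ Ideal.span (Set.range f))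
      have he : mon (sI f) 1 a ha = ∑ i, r i • mon (sI f) 1 (f i) (mem_pow_one f i) := by
        apply Subtype.ext
        subst hr
        simp [mon, map_sum, Polynomial.smul_monomial]
      rw [he]
      refine Ideal.sum_mem _ fun i _ => ?_
      rw [Algebra.smul_def]
      exact Ideal.mul_mem_left _ _ (hall i)
    obtain ⟨w, hw⟩ : p ∈ (chartι (sI f) (f i) (mem_pow_one f i)).opensRange := by
      rw [Proj.opensRange_awayι]; exact hi
    let j := chartι (sI f) (f i) (mem_pow_one f i) ≫ k
    have hjb : j ≫ b = Spec.map (CommRingCat.ofHom (sh f i)) := by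
      rw [Category.assoc, hk, chartι_reesToSpec]
    have hjw : j w = x := by rw [Scheme.Hom.comp_apply]; exact (congrArg k hw).trans hp
    have hmem : sh f i (f i) ∈ w.asIdeal := by
      have hbx : b x = PrimeSpectrum.comap (sh f i) w := by
        rw [← hjw]; exact congrArg (fun g : _ ⟶ Spec (CommRingCat.of A) => g w) hjb
      rw [Scheme.IdealSheafData.mem_support_iff_of_mem (U := ⟨⊤, isAffineOpen_top _⟩) (Set.mem_univ _), idealOf_top] at hx
      have h1 := (Scheme.mem_zeroLocus_iff _ _ _).1 hx _
        (Ideal.mem_map_of_mem _ (Ideal.subset_span ⟨i, rfl⟩ : f i ∈ sI f))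
      rw [basicOpen_eq_of_affine] at h1
      have h2 : f i ∈ (b x).asIdeal := not_not.1 h1
      rw [hbx] at h2
      exact h2
    haveI := regular_chart f hf i w.asIdeal hmem
    subst hjw
    exact IsRegularLocalRing.of_ringEquiv
      ((Spec.stalkIso _ w).commRingCatIsoToRingEquiv.symm.trans (asIso (j.stalkMap w)).commRingCatIsoToRingEquiv.symm)
  · haveI := Groth.L22.Ideals.isIso_stalkMap hb x hx
    haveI := Groth.Agent.S0564.result A (b x).asIdeal
    exact IsRegularLocalRing.of_ringEquiv
      ((Spec.stalkIso _ (b x)).commRingCatIsoToRingEquiv.symm.trans (asIso (b.stalkMap x)).commRingCatIsoToRingEquiv)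

theorem idealOf_comap_SpecMap {A B : Type u} [CommRing A] [CommRing B] (φ : A →+* B) (I : Ideal A) :
    (idealOf I).comap (Spec.map (CommRingCat.ofHom φ)) = idealOf (I.map φ) :=
  Scheme.IdealSheafData.ext_of_isAffine (by rw [comap_SpecMap, idealOf_top])

/-- The blow-up of a regular locally Noetherian scheme along a regular closed subscheme is regular. -/
theorem regular_blowUp {X Y Xt : Scheme.{u}}
    (hreg : ∀ x : X, IsRegularLocalRing (X.presheaf.stalk x)) (i : Y ⟶ X) [IsClosedImmersion i]
    (hregY : ∀ y : Y, IsRegularLocalRing (Y.presheaf.stalk y)) (π : Xt ⟶ X) (hπ : BlowUp.IsBlowUp π i.ker)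
    (z : Xt) : IsRegularLocalRing (Xt.presheaf.stalk z) := by
  haveI := hreg (π z)
  by_cases hx : π z ∈ i.ker.support
  · let I := i.ker
    obtain ⟨z', hz'⟩ : π z ∈ Set.range I.subschemeι := by rw [Scheme.IdealSheafData.range_subschemeι]; exact hx
    obtain ⟨U, hU, hxU, -⟩ := exists_isAffineOpen_mem_and_subset (x := I.subschemeι z') (U := ⊤) trivial
    obtain ⟨hsurj, hker⟩ := Groth.L11.SmRegular.stalkMap_subschemeι I z' ⟨U, hU⟩ hxU
    let x := I.subschemeι z'
    let A := X.presheaf.stalk x
    let φ := (X.presheaf.germ U x hxU).hom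
    let J : Ideal A := (I.ideal ⟨U, hU⟩).map φ
    haveI : IsRegularLocalRing A := hreg x
    haveI : IsRegularLocalRing (A ⧸ J) := by
      haveI : IsIso i.toImage := inferInstance
      obtain ⟨y, hy⟩ : ∃ y, i.toImage y = z' := ⟨inv i.toImage z', by rw [← Scheme.Hom.comp_apply, IsIso.inv_hom_id]; rfl⟩
      subst hy
      haveI := hregY y
      haveI : IsRegularLocalRing (I.subscheme.presheaf.stalk (i.toImage y)) :=
        IsRegularLocalRing.of_ringEquiv (asIso (i.toImage.stalkMap y)).commRingCatIsoToRingEquiv.symm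
      exact IsRegularLocalRing.of_ringEquiv
        ((Ideal.quotEquivOfEq hker.symm).trans (RingHom.quotientKerEquivOfSurjective hsurj)).symm
    let g : Spec (CommRingCat.of A) ⟶ X := X.fromSpecStalk x
    haveI : Flat g := Groth.L05.Point.flat_fromSpecStalk x
    haveI : IsPreimmersion g := inferInstanceAs (IsPreimmersion (X.fromSpecStalk x))
    have hI : I.comap g = idealOf J := by
      rw [show g = Spec.map (CommRingCat.ofHom φ) ≫ hU.fromSpec from (hU.fromSpecStalk_eq_fromSpecStalk hxU).symm,
        Scheme.IdealSheafData.comap_comp]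
      exact (congrArg (fun K => Scheme.IdealSheafData.comap K (Spec.map (CommRingCat.ofHom φ)))
        (Groth.L11.BlowSmooth.comap_fromSpec I ⟨U, hU⟩)).trans (idealOf_comap_SpecMap φ _)
    have hb := isBlowUp_pullback g hπ
    rw [show i.ker.comap g = idealOf J from hI] at hb
    obtain ⟨w, -, hw⟩ := Scheme.Pullback.exists_preimage_pullback (f := g) (g := π) (IsLocalRing.closedPoint A) z
      (by rw [← hz']; exact Scheme.fromSpecStalk_closedPoint)
    haveI := regular_blowUp_local J (pullback.fst g π) hb w
    subst hw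
    haveI : Flat (pullback.snd g π) := inferInstance
    haveI : IsPreimmersion (pullback.snd g π) := inferInstance
    have hbij : Function.Bijective ((pullback.snd g π).stalkMap w).hom := by
      refine ⟨?_, (pullback.snd g π).stalkMap_surjective w⟩
      algebraize [((pullback.snd g π).stalkMap w).hom]
      haveI hfl : Module.Flat (Xt.presheaf.stalk ((pullback.snd g π) w)) ((pullback g π).presheaf.stalk w) :=
        Flat.stalkMap (pullback.snd g π) w
      haveI : IsLocalHom (algebraMap (Xt.presheaf.stalk ((pullback.snd g π) w)) ((pullback g π).presheaf.stalk w)) :=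
        inferInstanceAs (IsLocalHom ((pullback.snd g π).stalkMap w).hom)
      haveI : Module.FaithfullyFlat (Xt.presheaf.stalk ((pullback.snd g π) w)) ((pullback g π).presheaf.stalk w) :=
        Module.FaithfullyFlat.of_flat_of_isLocalHom
      exact FaithfulSMul.algebraMap_injective _ _
    exact IsRegularLocalRing.of_ringEquiv (RingEquiv.ofBijective _ hbij).symm
  · haveI := Groth.L22.Ideals.isIso_stalkMap hπ z hx
    exact IsRegularLocalRing.of_ringEquiv (asIso (π.stalkMap z)).commRingCatIsoToRingEquiv

end Groth.L05.BlowRegular
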